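import Groth.Agent.Snapper75.Top
import Groth.Agent.Cyc90.SheafLen
import Groth.Agent.ZClos93.Depth

/-!
Dévissage of an additive invariant along direct images.
-/

set_option autoImplicit false
set_option backward.isDefEq.respectTransparency.types false
set_option linter.style.haveILetI false

noncomputable section

universe u

open CategoryTheory CategoryTheory.Limits AlgebraicGeometry TopologicalSpace Opposite

namespace Groth.Agent.EulerIsog7

variable {X : Scheme.{u}}

/-- The structure sheaf of a point closure is a dévissage generator. -/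
theorem genAt_ptMod [IsNoetherian X] (P : X.Modules → Prop) (y : X)
    (hpt : P (Snapper75.ptMod y))
    (hsub : ∀ S : ShortComplex X.Modules, S.ShortExact → Coh.IsCoh S.X₁ → Coh.IsCoh S.X₂ → Coh.IsCoh S.X₃ →
      CohB1.support S.X₂ ⊆ closure {y} → P S.X₂ → P S.X₃ → P S.X₁)
    (IH : ∀ F : X.Modules, Coh.IsCoh F → CohB1.support F ⊆ closure {y} → y ∉ CohB1.support F → P F) :
    QC70.GenAt P y := by
  have hG : Coh.IsCoh (Snapper75.ptMod y) := Crv77.isCoh_quotMod _
  haveI := hG.1
  haveI := hG.2
  haveI : IsSimpleModule (X.presheaf.stalk y) ((Snapper75.ptMod y).presheaf.stalk y) :=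
    Module.length_eq_one_iff.1 (Snapper75.length_ptMod y)
  have hkill : ∀ a ∈ IsLocalRing.maximalIdeal (X.presheaf.stalk y),
      ∀ m : (Snapper75.ptMod y).presheaf.stalk y, a • m = 0 := by
    intro a ha m
    obtain ⟨J, hJ, ⟨e⟩⟩ := isSimpleModule_iff_quot_maximal.1
      (inferInstance : IsSimpleModule (X.presheaf.stalk y) ((Snapper75.ptMod y).presheaf.stalk y))
    refine e.injective ?_
    rw [map_smul, map_zero]
    obtain ⟨c, hc⟩ := Submodule.Quotient.mk_surjective _ (e m)
    rw [← hc, ← Submodule.Quotient.mk_smul, Submodule.Quotient.mk_eq_zero]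
    exact Ideal.mul_mem_right _ _ (IsLocalRing.eq_maximalIdeal hJ ▸ ha)
  refine ⟨Snapper75.ptMod y, hG, IsSimpleModule.nontrivial (X.presheaf.stalk y) _, hkill, fun J hJ => ?_⟩
  refine ⟨_, 𝟙 _, inferInstance, QC70.isCoh_idealMul J hG, ?_, ?_⟩
  · rw [Category.id_comp]
    exact QC70.bijective_stalk_idealMulι J _ hJ
  · exact hsub _ (QC70.quotSC_shortExact J (Snapper75.ptMod y)) (QC70.isCoh_idealMul J hG) hG
      (QC70.isCoh_quot J hG) (Snapper75.support_ptMod y) hpt (IH _ (QC70.isCoh_quot J hG)
        ((QC70.support_quot_subset_left J _).trans (Snapper75.support_ptMod y))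
        (QC70.notMem_support_iff.2 (QC70.subsingleton_stalk_cokernel _ y
          (QC70.bijective_stalk_idealMulι J _ hJ).2)))

theorem specializes_of_mem_support {M : X.Modules} {y : X} (h : CohB1.support M ⊆ closure {y}) {x : X}
    (hx : x ∈ CohB1.support M) : y ⤳ x := specializes_iff_mem_closure.2 (h hx)

theorem length_ne_top_of_support [IsNoetherian X] {M : X.Modules} (hM : Coh.IsCoh M) {y : X}
    (h : CohB1.support M ⊆ closure {y}) :
    Module.length (X.presheaf.stalk y) (M.presheaf.stalk y) ≠ ⊤ :=
  Cyc90.length_stalk_ne_top M hM y fun x hx hxy =>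
    (hxy.antisymm (specializes_of_mem_support h (not_subsingleton_iff_nontrivial.2 hx))).eq

/-- An additive invariant of coherent modules vanishes when, for each point, it vanishes on some coherent
module supported exactly on the closure of that point. -/
theorem eq_zero_of_covering [IsNoetherian X] (φ : X.Modules → ℚ)
    (hiso : ∀ {M N : X.Modules}, (M ≅ N) → φ M = φ N)
    (hadd : ∀ S : ShortComplex X.Modules, S.ShortExact → Coh.IsCoh S.X₁ → Coh.IsCoh S.X₂ → Coh.IsCoh S.X₃ →
      φ S.X₂ = φ S.X₁ + φ S.X₃)
    (hsum : ∀ (G : X.Modules) (m : ℕ), Coh.IsCoh G → φ (⨁ fun _ : Fin m => G) = (m : ℚ) * φ G)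
    (hcov : ∀ y : X, ∃ G : X.Modules, Coh.IsCoh G ∧ CohB1.support G ⊆ closure {y} ∧ y ∈ CohB1.support G ∧ φ G = 0)
    (F : X.Modules) (hF : Coh.IsCoh F) : φ F = 0 := by
  have hzero : ∀ M : X.Modules, IsZero M → φ M = 0 := fun M hM => by
    have hM' : Coh.IsCoh M := QC70.isCoh_of_isZero hM
    have h1 := hsum M 0 hM'
    rw [Nat.cast_zero, zero_mul] at h1
    refine (hiso (IsZero.iso hM ?_)).trans h1
    rw [IsZero.iff_id_eq_zero]
    exact biproduct.hom_ext _ _ fun i => i.elim0
  refine QC70.devissage (fun M => φ M = 0) (fun M N ⟨e⟩ h => (hiso e).symm.trans h) hzero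
    (fun S hS h1 h2 h3 p1 p3 => by rw [hadd S hS h1 h2 h3, p1, p3, add_zero])
    (fun G m hG hm h => ?_) Set.univ isClosed_univ (fun y _ IH => genAt_ptMod _ y ?_ ?_ IH) F hF (Set.subset_univ _)
  · rw [← hiso (biproduct.isoCoproduct fun _ : Fin m => G), hsum G m hG] at h
    exact (mul_eq_zero.1 h).resolve_left (Nat.cast_ne_zero.2 (by omega))
  swap
  · intro S hS h1 h2 h3 _ p2 p3
    have := hadd S hS h1 h2 h3
    rw [p2, p3, add_zero] at this
    exact this.symm
  -- the structure sheaf of the closure of `y`
  obtain ⟨G, hG, hGs, hGy, hG0⟩ := hcov y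
  let Q : X.Modules → Prop := fun M => Coh.IsCoh M → CohB1.support M ⊆ closure {y} →
    φ M = Snapper75.len M y * φ (Snapper75.ptMod y)
  have key : Q G := by
    have hlen : ∀ {M N : X.Modules}, (M ≅ N) → Snapper75.len M y = Snapper75.len N y := fun {M N} e => by
      have hb : Function.Bijective (QC70.stalkLinear e.hom y) :=
        ⟨QC70.injective_stalkMapM_of_mono e.hom y, QC70.surjective_stalkMapM_of_epi e.hom y⟩
      simp only [Snapper75.len, (LinearEquiv.ofBijective _ hb).length_eq]
    have qadd : ∀ S : ShortComplex X.Modules, S.ShortExact → Coh.IsCoh S.X₂ →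
        CohB1.support S.X₂ ⊆ closure {y} →
        Snapper75.len S.X₂ y = Snapper75.len S.X₁ y + Snapper75.len S.X₃ y := fun S hS h2 hs => by
      have hne := length_ne_top_of_support h2 hs
      rw [Snapper75.length_stalk_add hS y] at hne
      simp only [Snapper75.len, Snapper75.length_stalk_add hS y]
      rw [ENat.toNat_add (fun e => hne (by rw [e, top_add])) (fun e => hne (by rw [e, add_top]))]
      push_cast
      rfl
    have qbi : ∀ (H : X.Modules) (m : ℕ), Coh.IsCoh H → CohB1.support H ⊆ closure {y} →
        Snapper75.len (⨁ fun _ : Fin m => H) y = (m : ℚ) * Snapper75.len H y := by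
      intro H m hH hHs
      induction m with
      | zero =>
        rw [Nat.cast_zero, zero_mul, Snapper75.len_eq_zero]
        intro hmem
        obtain ⟨i, -⟩ := Set.mem_iUnion.1 ((QC70.support_biproduct_subset fun _ : Fin 0 => H) hmem)
        exact i.elim0
      | succ m ihm =>
        have h := qadd _ (QC70.consSC_shortExact fun _ : Fin (m + 1) => H) (QC70.isCoh_biproduct _ fun _ => hH)
          ((QC70.support_biproduct_subset fun _ : Fin (m + 1) => H).trans (Set.iUnion_subset fun _ => hHs))
        refine h.trans ?_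
        show Snapper75.len H y + Snapper75.len (⨁ fun _ : Fin m => H) y = _
        rw [ihm]
        push_cast
        ring
    refine QC70.devissage Q (fun M N ⟨e⟩ h hN hNs => ?_) (fun M hM hM' hs => ?_)
      (fun S hS h1 h2 h3 p1 p3 _ hs => ?_) (fun H m hH hm hP _ hHs => ?_) (closure {y}) isClosed_closure
      (fun y' hy' IH' => genAt_ptMod Q y' (fun _ hps => ?_) (fun S hS h1 h2 h3 hs2 p2 p3 _ _ => ?_) IH') G hG hGs
    · rw [← hiso e, h (QC70.isCoh_of_iso e.symm hN) ((Snapper75.support_iso_subset e).trans hNs), hlen e]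
    · rw [hzero M hM, Snapper75.len_eq_zero, zero_mul]
      exact QC70.notMem_support_iff.2 (by
        refine subsingleton_of_forall_eq 0 fun e => ?_
        obtain ⟨W, hW, s, rfl⟩ := QC70.germM_exist e
        rw [show s = 0 by simpa using congr($(hM.eq_of_src (𝟙 M) 0).app W s), QC70.germM_zero])
    · rw [hadd S hS h1 h2 h3, qadd S hS h2 hs, p1 h1 ((Snapper75.support_X₁_subset hS).trans hs),
        p3 h3 ((Snapper75.support_X₃_subset hS).trans hs), add_mul]
    · have hb : CohB1.support (∐ fun _ : Fin m => H) ⊆ closure {y} :=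
        (Snapper75.support_iso_subset (biproduct.isoCoproduct fun _ : Fin m => H).symm).trans
          ((QC70.support_biproduct_subset fun _ : Fin m => H).trans (Set.iUnion_subset fun _ => hHs))
      have h := hP (QC70.isCoh_of_iso (biproduct.isoCoproduct fun _ : Fin m => H)
        (QC70.isCoh_biproduct _ fun _ => hH)) hb
      rw [← hiso (biproduct.isoCoproduct fun _ : Fin m => H), ← hlen (biproduct.isoCoproduct fun _ : Fin m => H),
        hsum H m hH, qbi H m hH hHs, mul_assoc] at h
      exact mul_left_cancel₀ (Nat.cast_ne_zero.2 (by omega)) h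
    · by_cases hyy : y ∈ closure ({y'} : Set X)
      · obtain rfl : y' = y :=
          ((specializes_iff_mem_closure.2 hyy).antisymm (specializes_iff_mem_closure.2 hy')).eq
        rw [show Snapper75.len (Snapper75.ptMod y') y' = 1 by simp [Snapper75.len, Snapper75.length_ptMod y'], one_mul]
      · have hn : y ∉ CohB1.support (Snapper75.ptMod y') := fun hm => hyy (Snapper75.support_ptMod y' hm)
        rw [IH _ (Crv77.isCoh_quotMod _) hps hn, Snapper75.len_eq_zero hn, zero_mul]
    · have hs := hs2.trans (isClosed_closure.closure_subset_iff.2 (Set.singleton_subset_iff.2 hy'))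
      have ha := hadd S hS h1 h2 h3
      rw [p2 h2 hs, p3 h3 ((Snapper75.support_X₃_subset hS).trans hs), qadd S hS h2 hs, add_mul] at ha
      exact (add_right_cancel ha).symm
  have h := key hG hGs
  rw [hG0] at h
  refine (mul_eq_zero.1 h.symm).resolve_left ?_
  simp only [Snapper75.len, ne_eq, Nat.cast_eq_zero, ENat.toNat_eq_zero, not_or]
  exact ⟨fun h0 => hGy (Module.length_eq_zero_iff.1 h0), length_ne_top_of_support hG hGs⟩

end Groth.Agent.EulerIsog7
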