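import Groth.Agent.EulerIsog7.Free
import Groth.Agent.EulerIsog7.Dev
import Groth.Agent.IsogKer97.Basic
import Groth.Agent.AlgGrp79.KernelPts
import Groth.Agent.RedPts82.SubGrp
import Groth.Agent.KRR40.PnPullVanish
import Groth.Agent.Rig93.GenGroup
import Groth.Agent.Alb96.GeomInt
import Groth.Agent.Cyc90.PushLen

/-!
Euler characteristics multiply by the degree under a finite flat morphism of abelian varieties.
-/

set_option autoImplicit false
set_option backward.isDefEq.respectTransparency.types false
set_option linter.style.haveILetI false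
set_option maxSynthPendingDepth 6

noncomputable section

universe u

open CategoryTheory CategoryTheory.Limits MonoidalCategory CartesianMonoidalCategory MonObj GrpObj AlgebraicGeometry

namespace Groth.Agent.EulerIsog7

/-- A direct image along a finite morphism of the structure sheaf of a point closure has that image as support. -/
theorem support_push_ptMod {X Y : Scheme.{u}} [IsNoetherian X] [IsNoetherian Y] (f : X ⟶ Y) [IsFinite f] (x : X) :
    CohB1.support ((Coh.push f).obj (Snapper75.ptMod x)) ⊆ closure {f x} ∧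
      f x ∈ CohB1.support ((Coh.push f).obj (Snapper75.ptMod x)) := by
  let H := Snapper75.ptMod x
  have hH : Coh.IsCoh H := Crv77.isCoh_quotMod _
  refine ⟨fun y hy => ?_, fun hsub => ?_⟩
  · by_contra hyc
    refine hy (subsingleton_of_forall_eq 0 fun e => ?_)
    obtain ⟨W, hyW, s, rfl⟩ := QC70.germM_exist e
    let V : Y.Opens := ⟨(closure {f x})ᶜ, isClosed_closure.isOpen_compl⟩
    have hyV : y ∈ W ⊓ V := ⟨hyW, hyc⟩
    rw [← QC70.germM_res (inf_le_left : W ⊓ V ≤ W) hyV s]
    refine (congrArg (QC70.germM _ (W ⊓ V) y hyV) ?_).trans (QC70.germM_zero hyV)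
    refine ZClos93.eq_zero_of_germs (F := H) _ fun z hz => ?_
    have hz' : z ∉ CohB1.support H := fun h => hz.2
      (image_closure_subset_closure_image f.continuous ⟨z, Snapper75.support_ptMod x h, rfl⟩ |>
        fun h' => by rwa [Set.image_singleton] at h')
    haveI := QC70.notMem_support_iff.1 hz'
    exact Subsingleton.elim _ _
  · have hP := Cyc90.isCoh_push_of_isFinite f H hH
    haveI := hP.2
    obtain ⟨_, ⟨V, hV, rfl⟩, hxV, hVs⟩ := Y.isBasis_affineOpens.exists_subset_of_mem_open
      (show f x ∈ (CohB1.support ((Coh.push f).obj H))ᶜ from fun h => h hsub)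
      (QC70.isClosed_support _).isOpen_compl
    replace hV : IsAffineOpen V := hV
    haveI hz : Subsingleton Γ(H, f ⁻¹ᵁ V) := subsingleton_of_forall_eq 0 fun s => by
      show (s : Γ((Coh.push f).obj H, V)) = 0
      refine ZClos93.eq_zero_of_germs (F := (Coh.push f).obj H) _ fun z hz => ?_
      haveI := QC70.notMem_support_iff.1 (show z ∉ CohB1.support ((Coh.push f).obj H) from hVs hz)
      exact Subsingleton.elim _ _
    have hxs : x ∈ CohB1.support H := fun hs => by
      have := Snapper75.length_ptMod x
      rw [Module.length_eq_zero_iff.2 hs] at this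
      exact zero_ne_one this
    let U : X.affineOpens := ⟨f ⁻¹ᵁ V, hV.preimage f⟩
    have hxU : x ∈ U.1 := hxV
    letI := Div89.stalkModule H U.1 x hxU
    haveI := Div89.primeAt_isPrime U x hxU
    haveI := Div89.isLocalizedModule_germLin H hH.1 U x hxU
    refine hxs (subsingleton_of_forall_eq 0 fun e => ?_)
    obtain ⟨⟨m, t⟩, hm⟩ := IsLocalizedModule.surj (Div89.primeAt U x hxU).primeCompl (Div89.germLin H U.1 x hxU) e
    refine (IsLocalizedModule.smul_inj (Div89.germLin H U.1 x hxU) t e 0).1 ?_
    rw [hm, smul_zero, Subsingleton.elim m 0, map_zero]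

theorem support_ptMod_mem {X : Scheme.{u}} (x : X) : x ∈ CohB1.support (Snapper75.ptMod x) := fun hs => by
  have := Snapper75.length_ptMod x
  rw [Module.length_eq_zero_iff.2 hs] at this
  exact zero_ne_one this

variable {k : Type u} [Field k] {X Y : Over (Spec (CommRingCat.of k))} [GrpObj X] [GrpObj Y]

/-- The Euler characteristic of the pullback of a direct image. -/
theorem euler_pullback_push [IsProper X.hom] [GeometricallyIntegral X.hom] [IsProper Y.hom]
    [LocallyOfFinitePresentation Y.hom] (f : X ⟶ Y) [IsFinite f.left] [Flat f.left] (d : ℕ)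
    (hd : ∀ y : ↥Y.left, Scheme.Hom.finrank f.left y = d) (G : X.left.Modules) (hG : Coh.IsCoh G) :
    @Curv2.euler k _ X.left ⟨X.hom⟩ ((Scheme.Modules.pullback f.left).obj ((Coh.push f.left).obj G)) =
      (d : ℤ) * @Curv2.euler k _ X.left ⟨X.hom⟩ G := by
  let c : 𝟙_ _ ⟶ Y := η[X] ≫ f
  let τ : Y ⟶ Y := 𝟙 Y * (toUnit Y ≫ c)⁻¹
  let τ' : Y ⟶ Y := 𝟙 Y * (toUnit Y ≫ c)
  haveI : IsIso τ := by
    refine ⟨τ', ?_, ?_⟩ <;>
      simp [τ, τ', MonObj.comp_mul, GrpObj.comp_inv, toUnit_unique (toUnit Y) _]
  haveI : IsIso τ.left := inferInstanceAs (IsIso ((Over.forget _).map τ))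
  let f₀ : X ⟶ Y := f ≫ τ
  haveI : IsFinite f₀.left := by rw [Over.comp_left]; infer_instance
  haveI : Flat f₀.left := by rw [Over.comp_left]; infer_instance
  have h0 : η[X] ≫ f₀ = η[Y] := by
    simp only [f₀, τ, c, MonObj.comp_mul, GrpObj.comp_inv, Category.comp_id]
    simp [toUnit_unique (toUnit Y) _, toUnit_unique (toUnit (𝟙_ (Over (Spec (CommRingCat.of k))))) (𝟙 _), MonObj.one_eq_one, ← Category.assoc]
  haveI : IsLocallyNoetherian (Spec (CommRingCat.of k)) := inferInstance
  haveI : GeometricallyConnected X.hom := ⟨fun L _ y Z a b h =>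
    haveI : IsIntegral Z := GeometricallyIntegral.geometrically_isIntegral (f := X.hom) y a b h
    inferInstance⟩
  haveI : GeometricallyReduced X.hom := inferInstance
  haveI : LocallyOfFinitePresentation X.hom := inferInstance
  haveI : Flat X.hom := by
    haveI : Subsingleton (Spec (CommRingCat.of k)) := inferInstanceAs (Subsingleton (PrimeSpectrum k))
    infer_instance
  haveI : IsMonHom f₀ := Rig93.isMonHom_general X Y f₀ h0
  let e : Spec (CommRingCat.of k) ⟶ Y.left := η[Y].left
  have he : e ≫ Y.hom = 𝟙 _ := Over.w η[Y]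
  let N : Over (Spec (CommRingCat.of k)) := Over.mk (pullback.snd f₀.left e)
  let i : N ⟶ X := Over.homMk (pullback.fst f₀.left e) (by
    show pullback.fst f₀.left e ≫ X.hom = pullback.snd f₀.left e
    rw [← Over.w f₀, pullback.condition_assoc, he, Category.comp_id])
  have hker : AlgGrp.IsKernel i f₀ := by
    haveI : Mono i := ⟨fun {T} a b hab => by
      ext : 1
      apply pullback.hom_ext
      · exact congrArg Over.Hom.left hab
      · exact (Over.w a).trans (Over.w b).symm⟩
    refine AlgGrp79.isKernel_of_pts i f₀ ?_ fun T a ha => ?_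
    · rw [AlgGrp79.one_def']
      ext : 1
      show pullback.fst f₀.left e ≫ f₀.left = (toUnit N).left ≫ e
      rw [pullback.condition]
      rfl
    · have hw : a.left ≫ f₀.left = T.hom ≫ e := by
        rw [AlgGrp79.one_def'] at ha
        exact congrArg Over.Hom.left ha
      exact ⟨Over.homMk (pullback.lift a.left T.hom hw) (pullback.lift_snd _ _ _),
        Over.OverMorphism.ext (pullback.lift_fst _ _ _)⟩
  have hw₀ : ((X ◁ i) ≫ μ[X]).left ≫ f.left = (fst X N).left ≫ f.left := by
    rw [← cancel_mono τ.left, Category.assoc, Category.assoc, ← Over.comp_left]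
    exact (IsogKer97.isPullback_left f₀ i hker).w.symm
  have sq : IsPullback ((X ◁ i) ≫ μ[X]).left (fst X N).left f.left f.left := by
    refine IsPullback.of_iso (IsogKer97.isPullback_left f₀ i hker).flip (Iso.refl _) (Iso.refl _) (Iso.refl _)
      (asIso τ.left).symm (by simp) (by simp) ?_ ?_ <;> simp [f₀]
  haveI : IsFinite N.hom := inferInstanceAs (IsFinite (pullback.snd f₀.left e))
  haveI : Flat N.hom := inferInstanceAs (Flat (pullback.snd f₀.left e))
  have hn : ∀ s, N.hom.finrank s = d := fun s => by
    refine (Scheme.Hom.finrank_of_isPullback _ _ f₀.left e (IsPullback.of_hasPullback f₀.left e) s).trans ?_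
    rw [← hd (inv τ.left (e s))]
    exact Scheme.Hom.finrank_of_isPullback (𝟙 X.left) f₀.left f.left (inv τ.left)
      (IsPullback.of_horiz_isIso ⟨by simp [f₀]⟩) _
  letI : X.left.Over (Spec (CommRingCat.of k)) := ⟨X.hom⟩
  letI : (X ⊗ N).left.Over (Spec (CommRingCat.of k)) := ⟨(X ⊗ N).hom⟩
  haveI : IsProper (X.left ↘ Spec (CommRingCat.of k)) := ‹IsProper X.hom›
  haveI : IsFinite ((X ◁ i) ≫ μ[X]).left := MorphismProperty.of_isPullback sq.flip ‹IsFinite f.left›
  haveI := hG.1
  haveI hbc := FMK72.isIso_bcNat_app sq.w sq G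
  refine (Crv77.euler_congr (k := k) (@asIso _ _ _ _ _ hbc)).trans ?_
  refine (CurveDeg75.euler_push_finite k _ (Over.w ((X ◁ i) ≫ μ[X])) _
    (Coh69.FibreAmple.isCoh_pullback' _ hG)).trans ?_
  exact euler_pullback_baseChange N.hom d hn (fst X N).left (snd X N).left
    (IsogKer97.isPullback_fst_left) (Over.w (fst X N)) G hG

set_option maxHeartbeats 1000000 in
/-- The Euler characteristic multiplies by the degree. -/
theorem euler_pullback [IsProper X.hom] [GeometricallyIntegral X.hom] [IsProper Y.hom]
    [GeometricallyIntegral Y.hom] (f : X ⟶ Y) [IsFinite f.left] [Flat f.left] (d : ℕ)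
    (hd : ∀ y : ↥Y.left, Scheme.Hom.finrank f.left y = d) (F : Y.left.Modules) (hF : Coh.IsCoh F) :
    @Curv2.euler k _ X.left ⟨X.hom⟩ ((Scheme.Modules.pullback f.left).obj F) =
      (d : ℤ) * @Curv2.euler k _ Y.left ⟨Y.hom⟩ F := by
  letI : X.left.Over (Spec (CommRingCat.of k)) := ⟨X.hom⟩
  letI : Y.left.Over (Spec (CommRingCat.of k)) := ⟨Y.hom⟩
  haveI : IsProper (X.left ↘ Spec (CommRingCat.of k)) := ‹IsProper X.hom›
  haveI : IsProper (Y.left ↘ Spec (CommRingCat.of k)) := ‹IsProper Y.hom›
  haveI := Crv77.isNoetherian_of_proper k X.left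
  haveI := Crv77.isNoetherian_of_proper k Y.left
  haveI : IsIntegral X.left := GeometricallyIntegral.isIntegral_of_subsingleton X.hom
  haveI : IsIntegral Y.left := GeometricallyIntegral.isIntegral_of_subsingleton Y.hom
  haveI : Surjective f.left := by
    refine (Scheme.Hom.one_le_finrank_iff_surjective f.left).1 fun y => ?_
    rw [hd y, ← hd (f.left (genericPoint X.left))]
    exact Scheme.Hom.one_le_finrank_map f.left _
  let φ : Y.left.Modules → ℚ := fun M =>
    ((Curv2.euler k X.left ((Scheme.Modules.pullback f.left).obj M) - (d : ℤ) * Curv2.euler k Y.left M : ℤ) : ℚ)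
  suffices φ F = 0 by
    have h : Curv2.euler k X.left ((Scheme.Modules.pullback f.left).obj F) - (d : ℤ) * Curv2.euler k Y.left F = 0 := by
      simp only [φ, Int.cast_eq_zero] at this
      exact this
    exact sub_eq_zero.1 h
  have hadd : (Scheme.Modules.pullback f.left).Additive :=
    haveI := (Scheme.Modules.pullbackPushforwardAdjunction f.left).isLeftAdjoint
    Functor.additive_of_preserves_binary_products _
  refine eq_zero_of_covering φ (fun {M N} e => ?_) (fun S hS h1 h2 h3 => ?_) (fun G m hG => ?_) (fun y => ?_) F hF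
  · simp only [φ]
    rw [Crv77.euler_congr (k := k) e, Crv77.euler_congr (k := k) ((Scheme.Modules.pullback f.left).mapIso e)]
  · simp only [φ]
    have c1 : Coh.IsCoh (S.map (Scheme.Modules.pullback f.left)).X₁ :=
      Coh69.FibreAmple.isCoh_pullback' (F := S.X₁) f.left h1
    have c2 : Coh.IsCoh (S.map (Scheme.Modules.pullback f.left)).X₂ :=
      Coh69.FibreAmple.isCoh_pullback' (F := S.X₂) f.left h2
    have c3 : Coh.IsCoh (S.map (Scheme.Modules.pullback f.left)).X₃ :=
      Coh69.FibreAmple.isCoh_pullback' (F := S.X₃) f.left h3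
    have hh := Snapper75.euler_add (X := X.left) k (S := S.map (Scheme.Modules.pullback f.left))
      (KRR40.shortExact_pullback_of_flat f.left hS) c1 c2 c3
    simp only [ShortComplex.map_X₁, ShortComplex.map_X₂, ShortComplex.map_X₃] at hh
    rw [Snapper75.euler_add k hS h1 h2 h3, hh]
    push_cast
    ring
  · simp only [φ]
    haveI := (Scheme.Modules.pullbackPushforwardAdjunction f.left).isLeftAdjoint
    have hh : Curv2.euler k X.left ((Scheme.Modules.pullback f.left).obj (⨁ fun _ : Fin m => G)) =
        (m : ℤ) * Curv2.euler k X.left ((Scheme.Modules.pullback f.left).obj G) :=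
      (Crv77.euler_congr (k := k) ((Scheme.Modules.pullback f.left).mapBiproduct fun _ : Fin m => G)).trans
        (Snapper75.euler_coproduct (X := X.left) k (Coh69.FibreAmple.isCoh_pullback' f.left hG) m)
    rw [Snapper75.euler_coproduct k hG m, hh]
    push_cast
    ring
  · obtain ⟨x, rfl⟩ := f.left.surjective y
    have hP : Coh.IsCoh (Snapper75.ptMod x) := Crv77.isCoh_quotMod _
    refine ⟨(Coh.push f.left).obj (Snapper75.ptMod x), Cyc90.isCoh_push_of_isFinite f.left _ hP,
      (support_push_ptMod f.left x).1, (support_push_ptMod f.left x).2, ?_⟩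
    simp only [φ]
    rw [euler_pullback_push f d hd _ hP, CurveDeg75.euler_push_finite k f.left (Over.w f) _ hP, sub_self,
      Int.cast_zero]

end Groth.Agent.EulerIsog7
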