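import Groth.Agent.FMK72.BaseChange
import Groth.Agent.CurveDeg75.Pull
import Groth.Agent.Omega57.PullFree
import Groth.Agent.Snapper75.Main
import Groth.Agent.PerfFib24.Tensor
import Groth.Agent.Coh69.FibreAmple
import Mathlib.AlgebraicGeometry.Morphisms.FlatRank

/-!
Euler characteristic of a pullback along a finite constant extension.
-/

set_option autoImplicit false
set_option backward.isDefEq.respectTransparency.types false
set_option maxSynthPendingDepth 6
set_option linter.style.haveILetI false

noncomputable section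

universe u

open CategoryTheory CategoryTheory.Limits AlgebraicGeometry Opposite

namespace Groth.Agent.EulerIsog7

variable {k : Type u} [Field k]

/-- The direct image of the structure sheaf of a finite scheme over a field is free of the rank. -/
theorem exists_iso_free {N : Scheme.{u}} (p : N ⟶ Spec (CommRingCat.of k)) [IsFinite p] [Flat p] (d : ℕ)
    (hd : ∀ s, Scheme.Hom.finrank p s = d) :
    Nonempty ((Coh.push p).obj (Coh.structureModule N) ≅ SheafOfModules.free (ULift.{u} (Fin d))) := by
  haveI : IsAffine N := isAffine_of_isAffineHom p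
  haveI hq : ((Coh.push p).obj (Coh.structureModule N)).IsQuasicoherent :=
    QCqs72.isQuasicoherent_pushforward (M := Coh.structureModule N) p
  let M := (Coh.push p).obj (Coh.structureModule N)
  let V : ModuleCat.{u} k := (moduleSpecΓFunctor (R := CommRingCat.of k)).obj M
  let φ : CommRingCat.of k ⟶ Γ(N, ⊤) := (Scheme.ΓSpecIso (CommRingCat.of k)).inv ≫ p.appTop
  letI : Algebra k Γ(N, ⊤) := φ.hom.toAlgebra
  let eV : V ≃ₗ[k] Γ(N, ⊤) :=
    { toFun := fun x => x, invFun := fun x => x, map_add' := fun _ _ => rfl, map_smul' := fun _ _ => rfl,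
      left_inv := fun _ => rfl, right_inv := fun _ => rfl }
  haveI : Module.Finite k Γ(N, ⊤) := by
    have h : p.appTop.hom.Finite := p.finite_appTop
    exact RingHom.Finite.comp h (RingHom.Finite.of_surjective _
      (ConcreteCategory.bijective_of_isIso (Scheme.ΓSpecIso (CommRingCat.of k)).inv).2)
  have hA : Module.finrank k Γ(N, ⊤) = d := by
    have hp : N.isoSpec.hom ≫ Spec.map (CommRingCat.ofHom (algebraMap k Γ(N, ⊤))) = p := by
      show N.isoSpec.hom ≫ Spec.map φ = p
      rw [Spec.map_comp, ← Category.assoc, Scheme.isoSpec_hom, ← Scheme.toSpecΓ_naturality, Category.assoc]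
      simp
    have h := hd (show Spec (CommRingCat.of k) from IsLocalRing.closedPoint k)
    have hfin : IsFinite (Spec.map (CommRingCat.ofHom (algebraMap k Γ(N, ⊤)))) :=
      (IsFinite.SpecMap_iff _).2 (RingHom.finite_algebraMap.2 inferInstance)
    have hflat : Flat (Spec.map (CommRingCat.ofHom (algebraMap k Γ(N, ⊤)))) :=
      (HasRingHomProperty.Spec_iff (P := @Flat)).2 (RingHom.flat_algebraMap_iff.2 inferInstance)
    rw [← hp, Scheme.Hom.finrank_comp_left_of_isIso, Scheme.Hom.finrank_SpecMap_algebraMap,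
      Module.rankAtStalk_eq_finrank_of_free] at h
    exact h
  let b := (((Module.finBasisOfFinrankEq k Γ(N, ⊤) hA).map eV.symm).reindex (Equiv.ulift.{u}).symm)
  haveI := Scheme.Modules.isIso_fromTildeΓ_of_isQuasicoherent (R := CommRingCat.of k) M
  let e : ModuleCat.of k (ULift.{u} (Fin d) →₀ k) ≅ V := b.repr.symm.toModuleIso
  exact ⟨(asIso (Scheme.Modules.fromTildeΓ (R := CommRingCat.of k) M)).symm ≪≫
    (tilde.functor (CommRingCat.of k)).mapIso e.symm ≪≫ tildeFinsupp (R := CommRingCat.of k) _⟩

/-- Pullback along the projection from a constant finite extension multiplies the Euler characteristic. -/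
theorem euler_pullback_baseChange {X P N : Scheme.{u}} [X.Over (Spec (CommRingCat.of k))]
    [P.Over (Spec (CommRingCat.of k))] [IsProper (X ↘ Spec (CommRingCat.of k))]
    (p : N ⟶ Spec (CommRingCat.of k)) [IsFinite p] [Flat p] (d : ℕ) (hd : ∀ s, Scheme.Hom.finrank p s = d)
    (q : P ⟶ X) (t : P ⟶ N) (sq : IsPullback q t (X ↘ Spec (CommRingCat.of k)) p)
    (hq : q ≫ (X ↘ Spec (CommRingCat.of k)) = P ↘ Spec (CommRingCat.of k)) (G : X.Modules) (hG : Coh.IsCoh G) :
    Curv2.euler k P ((Scheme.Modules.pullback q).obj G) = (d : ℤ) * Curv2.euler k X G := by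
  haveI : IsFinite q := MorphismProperty.of_isPullback sq.flip ‹IsFinite p›
  haveI := Crv77.isNoetherian_of_proper k X
  haveI := hG.1
  obtain ⟨e0⟩ := exists_iso_free p d hd
  haveI := (Crv77.isCoh_structureModule (X := P)).1
  haveI := (Crv77.isCoh_structureModule (X := N)).1
  haveI hbc := FMK72.isIso_bcNat_app (f := p) (g := q) (p := X ↘ Spec (CommRingCat.of k)) (q := t) sq.w sq
    (Coh.structureModule N)
  let eO : (Coh.push q).obj (Coh.structureModule P) ≅ ∐ fun _ : ULift.{u} (Fin d) => Coh.structureModule X :=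
    (Coh.push q).mapIso (PicLoc.pullbackStructureIso t).symm ≪≫
      (@asIso _ _ _ _ _ hbc).symm ≪≫ (Scheme.Modules.pullback (X ↘ Spec (CommRingCat.of k))).mapIso e0 ≪≫
      Omega57.pullbackFreeIso _ _
  obtain ⟨eP⟩ := CurveDeg75.nonempty_projIso q (Coh.structureModule P) (E := G)
  let e1 : (Coh.push q).obj ((Scheme.Modules.pullback q).obj G) ≅
      CohB1.tensorMod ((Coh.push q).obj (Coh.structureModule P)) G :=
    (Coh.push q).mapIso (EGA73.tensUnitLeft _).symm ≪≫ eP.symm
  let T : X.Modules ⥤ X.Modules := Mod48.tR (O := X.sheaf) G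
  haveI : PreservesColimitsOfShape (Discrete (ULift.{u} (Fin d))) T :=
    Mod48.preservesColimitsOfShape_tR (O := X.sheaf) G _
  haveI : HasColimitsOfShape (Discrete (Fin d)) X.Modules := inferInstance
  let e2 : CohB1.tensorMod (∐ fun _ : ULift.{u} (Fin d) => Coh.structureModule X) G ≅ ⨁ fun _ : Fin d => G :=
    PreservesCoproduct.iso T _ ≪≫ Sigma.mapIso (fun _ => EGA73.tensUnitLeft G) ≪≫
      Sigma.whiskerEquiv (f := fun _ : ULift.{u} (Fin d) => G) (g := fun _ : Fin d => G) Equiv.ulift
        (fun _ => Iso.refl G) ≪≫ (biproduct.isoCoproduct _).symm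
  have hPq := Coh69.FibreAmple.isCoh_pullback' q hG
  rw [← CurveDeg75.euler_push_finite k q hq _ hPq,
    Crv77.euler_congr (k := k) (e1 ≪≫ EGA73.tensIso eO (Iso.refl G) ≪≫ e2), Snapper75.euler_coproduct k hG d]

end Groth.Agent.EulerIsog7
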